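import Cfsg.Agent.Lib.OddOrder.Interface.PF8
import Cfsg.Agent.S1377
import Cfsg.Agent.S1379

/-!
# `Interface.PF8.BG14`: the counting part of BG 14 (S1377, S1379)
-/

set_option autoImplicit false

namespace Cfsg.Agent.Lib.OddOrder.Assembly.Counting14

universe u

theorem bg14 {G : Type u} [Group G] [Finite G] (hG : Cfsg.IsMinSimpleOddOrder G) :
    Interface.PF8.BG14 G where
  count M hM := Cfsg.Agent.S1377.result hG M hM
  cover := Cfsg.Agent.S1379.result hG

end Cfsg.Agent.Lib.OddOrder.Assembly.Counting14
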