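import Cfsg.Agent.Lib.OddOrder.Assembly.PF11Setup
import Cfsg.Agent.Lib.OddOrder.PF10.Partner
import Cfsg.Agent.Lib.OddOrder.PF11.Main
import Cfsg.Agent.Lib.OddOrder.PF12.Final
import Cfsg.Agent.Lib.OddOrder.Types.Main
import Cfsg.Agent.Lib.OddOrder.Final

/-!
# The chain from the open interfaces to the inputs of the final theorem

`Open G` lists what the sections still have to deliver; everything downstream of it is assembled.
-/

set_option autoImplicit false

namespace Cfsg.Agent.Lib.OddOrder.Assembly

open Cfsg.Agent.Lib.OddOrder.Interface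

universe u

variable {G : Type u} [Group G] [Fintype G]

/-- The interfaces still to be proved by their owners. -/
structure Open (G : Type u) [Group G] [Fintype G] : Prop where
  rows : Types.Rows G
  bg14 : PF8.BG14 G
  step_10_8 : PF10.Step_10_8 G
  typeV : PF10.TypeVCoherent G

/-- What §12-§14 and the final assembly take from the earlier sections. -/
structure Ready (G : Type u) [Group G] [Fintype G] : Prop where
  bg16 : PF8.BG16 G
  step_8_15 : PF8.Step_8_15 G
  step_8_17 : PF8.Step_8_17 G
  step_8_18 : PF8.Step_8_18 G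
  partner : PF10.Partner G
  step_10_11 : PF13Needs.Step_10_11 G
  noTypeV : PF12.NoTypeV G
  typeThreeFourCyclic : PF12.TypeThreeFourCyclic G
  step_12_6 : PF12.Step_12_6 G
  step_12_7 : PF12.Step_12_7 G
  step_12_17 : PF12.Step_12_17 G
  structureStmt : Final.StructureStmt G

theorem ready (hG : Cfsg.IsMinSimpleOddOrder G) (o : Open G) : Ready G :=
  have hB : PF8.BG16 G := Types.bg16 hG o.rows
  have hV : PF12.NoTypeV G := noTypeV o.step_10_8 o.typeV
  have hp : PF10.Partner G := Cfsg.Agent.Lib.OddOrder.PF10.partner hB.structureThm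
  have h34 : PF12.TypeThreeFourCyclic G :=
    typeThreeFourCyclic hG hB hp o.step_10_8 (Cfsg.Agent.Lib.OddOrder.PF11.Main.step_11 (G := G))
  { bg16 := hB
    step_8_15 := PF8.Dade.step_8_15 hG hB
    step_8_17 := PF8.Supports.step_8_17 hG hB
    step_8_18 := PF8.Cover.step_8_18 hG hB o.bg14
    partner := hp
    step_10_11 := Cfsg.Agent.Lib.OddOrder.PF10.step_10_11 hG hp hV
    noTypeV := hV
    typeThreeFourCyclic := h34
    step_12_6 := PF12.Final.coherence hG hB
    step_12_7 := PF12.Final.typeI_frobenius hG hB hV h34
    step_12_17 := PF12.Final.not_all_typeI hG hB o.bg14 hV h34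
    structureStmt := hB.structureThm }

end Cfsg.Agent.Lib.OddOrder.Assembly
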