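import Cfsg.Agent.Lib.OddOrder.PrimeDade.TypeP
import Cfsg.Agent.Lib.OddOrder.Interface.PF10

/-!
# Section 11 from sections 8 and 10

The hypotheses of §11 for a maximal subgroup of type III or IV, and the fact §12 takes from §11.
-/

set_option autoImplicit false

namespace Cfsg.Agent.Lib.OddOrder.Assembly

open Cfsg.Agent.Lib.OddOrder.Interface

universe u

variable {G : Type u} [Group G] [Fintype G]

/-- For types III and IV: `U ≠ 1`, `|W₁|` prime, `M_s = M'`, not of type II. -/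
theorem typeThreeFour_facts {M W₁ U W₂ : Subgroup G} (hM : IsCoatom M)
    (hP : Cfsg.IsTypePWith M W₁ U W₂) (h34 : Cfsg.IsOfTypeIII M ∨ Cfsg.IsOfTypeIV M) :
    U ≠ ⊥ ∧ (Nat.card W₁).Prime ∧ Cfsg.typeCore M = ⁅M, M⁆ ∧ ¬ Cfsg.IsOfTypeII M := by
  rcases h34 with h | h
  · obtain ⟨a, b, -, -, -, c, -, -, d⟩ := PF8.TypeP.step_8_5.typeIII M hM W₁ U W₂ hP h
    exact ⟨a, b, d, c⟩
  · obtain ⟨a, b, -, -, -, c, -, -, d⟩ := PF8.TypeP.step_8_5.typeIV M hM W₁ U W₂ hP h
    exact ⟨a, b, d, c⟩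

/-- The hypotheses of §11. -/
theorem pf11_setup (hG : Cfsg.IsMinSimpleOddOrder G) (hB : PF8.BG16 G) (hp : PF10.Partner G)
    (h108 : PF10.Step_10_8 G) {M W₁ U W₂ : Subgroup G} [Fintype M] (hM : IsCoatom M)
    (hP : Cfsg.IsTypePWith M W₁ U W₂) (h34 : Cfsg.IsOfTypeIII M ∨ Cfsg.IsOfTypeIV M) :
    PF11.Setup M W₁ U W₂ := by
  obtain ⟨hU, hq, hcore, hII⟩ := typeThreeFour_facts hM hP h34
  have hp2 : (Nat.card W₂).Prime := by
    obtain ⟨S, V, hS, hPS, -, hor, -⟩ := hp M W₁ U W₂ hM hP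
    exact (PF8.TypeP.step_8_5.typeII S hS W₂ V W₁ hPS (hor.resolve_left hII)).2.1
  exact {
    odd := by
      have := MinSimple.odd_card hG (⊤ : Subgroup G)
      rwa [Subgroup.card_top] at this
    typeP := hP
    solvable := MinSimple.solvable_of_ne_top hG hM.1
    U_ne := hU
    q_prime := hq
    p_prime := hp2
    not_typeI := PF8.TypeP.not_typeI ⟨_, _, _, hP⟩
    dade := (PF8.Dade.step_8_15 hG hB M hM _ (Or.inr (Or.inr rfl))).2
    derived_subset := fun x hx hx1 => PrimeDade.Instance.derived_subset_typeA0 hP hcore hx hx1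
    system := PrimeDade.Instance.system_above hG hB hM hP hcore
    noncoherent := h108 M W₁ U W₂ hM hP (h34.imp id Or.inl) }

/-- `PF12.TypeThreeFourCyclic` from §10 and §11. -/
theorem typeThreeFourCyclic (hG : Cfsg.IsMinSimpleOddOrder G) (hB : PF8.BG16 G)
    (hp : PF10.Partner G) (h108 : PF10.Step_10_8 G) (h11 : PF11.Step_11 G) :
    PF12.TypeThreeFourCyclic G := by
  intro M W₁ U W₂ hM hP h34
  haveI := Fintype.ofFinite M
  exact (h11 M W₁ U W₂ (pf11_setup hG hB hp h108 hM hP h34)).U_cyclic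

/-- `PF12.NoTypeV` from the two halves of (10.10). -/
theorem noTypeV (h108 : PF10.Step_10_8 G) (hV : PF10.TypeVCoherent G) : PF12.NoTypeV G := by
  intro M hM hTV
  haveI := Fintype.ofFinite M
  obtain ⟨W₁, U, W₂, hP, -⟩ := id hTV
  exact h108 M W₁ U W₂ hM hP (Or.inr (Or.inr hTV)) (hV M W₁ U W₂ hM hP hTV)

end Cfsg.Agent.Lib.OddOrder.Assembly
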