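import Cfsg.Agent.Lib.OddOrder.TypeOne
import Cfsg.Agent.Lib.OddOrder.PF8.Supports
import Cfsg.Agent.Lib.OddOrder.Types.Main

/-!
# S1537, S1538, S1539 (with the printed type I of `TypeOne`) from the rows of BG 14 and 15
-/

set_option autoImplicit false

namespace Cfsg.Agent.Lib.OddOrder.Assembly.Rows8

universe u

variable {G : Type u} [Group G] [Finite G]

theorem s1537 (hG : Cfsg.IsMinSimpleOddOrder G) (R : Types.Rows G) (M : Subgroup G)
    (hM : IsCoatom M) (A : Set G)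
    (hA : A = Cfsg.typeA1 M ∨ A = Cfsg.Agent.Lib.OddOrder.TypeOne.typeA M ∨ A = Cfsg.Agent.Lib.OddOrder.TypeOne.typeA0 M) :
    Subgroup.normalizer A = M ∧ Cfsg.DadeHypothesis A M (Cfsg.supportR M) :=
  PF8.Dade.step_8_15 hG (Types.bg16 hG R) M hM A hA

theorem s1538 (hG : Cfsg.IsMinSimpleOddOrder G) (R : Types.Rows G) (M : Subgroup G)
    (hM : IsCoatom M) (hII : Cfsg.IsOfTypeII M) :
    (Cfsg.IsTISubset (Cfsg.Agent.Lib.OddOrder.TypeOne.typeA0 M) ∧ Subgroup.normalizer (Cfsg.Agent.Lib.OddOrder.TypeOne.typeA0 M) = M) ∧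
    (Cfsg.IsTISubset (Cfsg.Agent.Lib.OddOrder.TypeOne.typeA M) ∧ Subgroup.normalizer (Cfsg.Agent.Lib.OddOrder.TypeOne.typeA M) = M) ∧
    (Cfsg.IsTISubset (Cfsg.typeA1 M) ∧ Subgroup.normalizer (Cfsg.typeA1 M) = M) :=
  ⟨(PF8.Dade.step_8_16 hG (Types.bg16 hG R) M hM hII).1,
    (PF8.Dade.step_8_16 hG (Types.bg16 hG R) M hM hII).2.1,
    (PF8.Dade.step_8_16 hG (Types.bg16 hG R) M hM hII).2.2.1⟩

theorem s1539 (hG : Cfsg.IsMinSimpleOddOrder G) (R : Types.Rows G) :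
    Interface.PF8.Step_8_17 G :=
  PF8.Supports.step_8_17 hG (Types.bg16 hG R)

end Cfsg.Agent.Lib.OddOrder.Assembly.Rows8
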