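import Cfsg.Agent.Lib.OddOrder.Types.Rows
import Cfsg.Agent.Lib.OddOrder.BG14.KappaRows
import Cfsg.Agent.Lib.OddOrder.BG14.SupportKappa
import Cfsg.Agent.Lib.OddOrder.BG14.SupportFrobenius
import Cfsg.Agent.Lib.OddOrder.BG14.SupportSigma
import Cfsg.Agent.Lib.OddOrder.BG14.SupportRows
import Cfsg.Agent.Lib.OddOrder.BG14.TheoremB
import Cfsg.Agent.Lib.OddFitting.Discharge
import Cfsg.Agent.Lib.OddFitting.Chain
import Cfsg.Agent.Lib.OddFitting.Star
import Cfsg.Agent.Lib.OddFitting.Fusion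
import Cfsg.Agent.Lib.OddFitting.CentralizerHall
import Cfsg.Agent.Lib.OddFitting.NotTI
import Cfsg.Agent.S1351
import Cfsg.Agent.S1352
import Cfsg.Agent.S1354
import Cfsg.Agent.S1358
import Cfsg.Agent.S1359
import Cfsg.Agent.S1360
import Cfsg.Agent.S1361
import Cfsg.Agent.S1362
import Cfsg.Agent.S1365
import Cfsg.Agent.S1366
import Cfsg.Agent.S1368
import Cfsg.Agent.S1369
import Cfsg.Agent.S1370
import Cfsg.Agent.S1371
import Cfsg.Agent.S1372
import Cfsg.Agent.S1373
import Cfsg.Agent.S1374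
import Cfsg.Agent.S1375
import Cfsg.Agent.S1378
import Cfsg.Agent.S1432

/-!
# The rows of BG 14 and 15 used by BG 16, from the last row of BG 14 (S1435)
-/

set_option autoImplicit false
set_option linter.unusedVariables false

namespace Cfsg.Agent.Lib.OddOrder.Assembly.RowsOf

open Cfsg.Agent.Lib.OddFitting

universe u

variable {G : Type u} [Group G] [Finite G]

theorem kappaCyclic (hG : Cfsg.IsMinSimpleOddOrder G) : Hyps.KappaCyclic G :=
  fun M K hM hK => (Cfsg.Agent.S1351.result hG M hM).2 K hK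

theorem starPrime (hG : Cfsg.IsMinSimpleOddOrder G) : Hyps.StarPrime G :=
  fun M K U hM hKU hK1 hU =>
    Partner.card_star_prime (Partner.hyp hG) (Partner.Pair.of hM hKU.hall hK1)
      ((Partner.isP1_iff (Partner.hyp hG) hM hKU).2 hU)

theorem starCyclic (hG : Cfsg.IsMinSimpleOddOrder G) : Hyps.StarCyclic G := by
  intro M K U hM hKU hK1
  have := Partner.isCyclic_sup (Partner.hyp hG) (Partner.Pair.of hM hKU.hall hK1)
  exact Subgroup.isCyclic_of_le (le_sup_right (a := K))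

theorem centralizingElement (hG : Cfsg.IsMinSimpleOddOrder G) : Hyps.CentralizingElement G :=
  fun M hM x hx hx1 x' hx' hx'1 hσ =>
    (Cfsg.Agent.S1432.result hG M hM x hx hx1 x' hx' hx'1 hσ).imp And.left And.left

theorem conjTransitive (hG : Cfsg.IsMinSimpleOddOrder G) : Hyps.ConjTransitive G := by
  intro M hM x hx hx1 g hg
  obtain ⟨-, R, -, hR, hr⟩ := Cfsg.Agent.S1374.result hG M hM x hx hx1
  obtain ⟨r, hr', -⟩ := hr g hg
  exact ⟨r, hR.2.1 hr'.1, hr'.2⟩

theorem regularExponent (hG : Cfsg.IsMinSimpleOddOrder G) : Hyps.RegularExponent G :=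
  fun M K U hM hKU => Cfsg.Agent.S1360.result hG M hM K U hKU

theorem base (hG : Cfsg.IsMinSimpleOddOrder G) : Meet.Base G where
  min := hG
  nonKappa := Hyps.nilpotentOfNonKappa hG
  cyclic := kappaCyclic hG
  prime := Hyps.primeAction hG
  starPrime := starPrime hG
  support := BG14.SupportRows.supportTauTwo (BG14.TypePFixedProof.typePFixed hG) hG
  escape M N hM hN x hx hx1 hxM hxN := by
    obtain ⟨L, -, huniq, -, -, -, hc, -⟩ := Cfsg.Agent.S1375.result hG M hM x hx hx1 hxM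
    exact huniq N hN hxN ▸ hc

/-- S1363, given S1435. -/
theorem r1363 (hG : Cfsg.IsMinSimpleOddOrder G) (hS : BG14.KappaHyp.SylowNormalizer G)
    {M K U : Subgroup G} (hM : IsCoatom M) (hKU : Cfsg.IsSigmaDecomposition M K U) (hK1 : K ≠ ⊥) :
    IsMulCommutative U ∧ ¬ Subgroup.normalizer (U : Set G) ≤ M := by
  refine ⟨BG14.TheoremB.U_abelian hG hM hKU hK1, fun hle => ?_⟩
  rcases eq_or_ne U ⊥ with rfl | hU
  · refine hM.1 (top_unique (le_trans ?_ hle))
    rw [Subgroup.normalizer_eq_top]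
  obtain ⟨r, hr, hd⟩ := Nat.exists_prime_and_dvd
    (fun e : Nat.card U = 1 => hU (Subgroup.card_eq_one.1 e))
  have := Fact.mk hr
  obtain ⟨R⟩ : Nonempty (Sylow r U) := inferInstance
  obtain ⟨N, ⟨hN, hKst, hKstH⟩, -⟩ := Cfsg.Agent.S1366.result hG M hM K U hKU hK1
  set R' := (R : Subgroup U).map U.subtype with hR'
  have hR1 : R' ≠ ⊥ := fun h => Sylow.ne_bot_of_dvd_card R hd
    ((Subgroup.map_eq_bot_iff_of_injective _ U.subtype_injective).1 h)
  have hRt : R' ≠ ⊤ := fun h =>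
    hM.1 (top_unique (h ▸ (Subgroup.map_subtype_le _).trans hKU.compl.1))
  obtain ⟨H, hH, hNH⟩ := MinSimple.exists_coatom_ge hG (MinSimple.normalizer_ne_top hG hR1 hRt)
  exact (hS M hM K U hKU hK1 hU N hN hKst hKstH r hd R H hH hNH).2.2.2.1
    (inf_le_right.trans hle)

/-- All the rows. -/
theorem rows (hG : Cfsg.IsMinSimpleOddOrder G) (hS : BG14.KappaHyp.SylowNormalizer G) :
    Types.Rows G where
  r1351 M hM := Cfsg.Agent.S1351.result hG M hM
  r1352 M hM K hKc hK := Cfsg.Agent.S1352.result hG M hM K hKc hK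
  r1354 M hM K hKc hK := Cfsg.Agent.S1354.result hG M hM K hKc hK
  r1355 M hM := Chain.fitting_hall_chain hG (Hyps.nilpotentOfNonKappa hG) (kappaCyclic hG)
    (Hyps.primeAction hG) (starPrime hG) hM
  r1356 M hM :=
    ⟨Chain.second_derived_le_fitting hG (Hyps.nilpotentOfNonKappa hG) (kappaCyclic hG)
        (Hyps.primeAction hG) (starPrime hG) hM,
      Chain.fitting_eq hG (Hyps.nilpotentOfNonKappa hG) (kappaCyclic hG) (Hyps.primeAction hG)
        (starPrime hG) (centralizingElement hG) (Hyps.sylowNotInStar hG) hM,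
      Chain.fitting_le_derived hG (kappaCyclic hG) (Hyps.regularComplement hG) hM⟩
  r1357 M hM K U hKU hne := NotTI.fitting_hall_ne_sigma (base hG) hM hKU hne
  r1358 M hM K U hKU := Cfsg.Agent.S1358.result hG M hM K U hKU
  r1359 M hM K U hKU := Cfsg.Agent.S1359.result hG M hM K U hKU
  r1360 M hM K U hKU := Cfsg.Agent.S1360.result hG M hM K U hKU
  r1361 M hM K U hKU X hXU hX hXc := Cfsg.Agent.S1361.result hG M hM K U hKU X hXU hX hXc
  r1362 M hM K U hKU := Cfsg.Agent.S1362.result hG M hM K U hKU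
  r1363 M hM K U hKU hK1 := r1363 hG hS hM hKU hK1
  r1364 M hM K U hKU hK1 := Star.kappa_star hG (Hyps.nilpotentOfNonKappa hG)
    (Hyps.primeAction hG) (starPrime hG) (Hyps.sylowNotInStar hG) (Hyps.starNeBot hG)
    (starCyclic hG) hM hKU hK1
  r1365 M hM K U hKU hK1 := Cfsg.Agent.S1365.result hG M hM K U hKU hK1
  r1366 M hM K U hKU hK1 := Cfsg.Agent.S1366.result hG M hM K U hKU hK1
  r1368 M hM K U hKU hK1 N hN hKst hKstH :=
    Cfsg.Agent.S1368.result hG M hM K U hKU hK1 N hN hKst hKstH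
  r1369 M hM K U hKU hK1 N hN hKst hKstH :=
    Cfsg.Agent.S1369.result hG M hM K U hKU hK1 N hN hKst hKstH
  r1370 M hM K U hKU hK1 := Cfsg.Agent.S1370.result hG M hM K U hKU hK1
  r1371 M hM K U hKU hK1 := Cfsg.Agent.S1371.result hG M hM K U hKU hK1
  r1372 M hM K U hKU hK1 hU1 := Cfsg.Agent.S1372.result hG M hM K U hKU hK1 hU1
  r1374 M hM x hx hx1 := Cfsg.Agent.S1374.result hG M hM x hx hx1
  r1375 M hM x hx hx1 hxM := Cfsg.Agent.S1375.result hG M hM x hx hx1 hxM
  r1376 M hM x hx hx1 hxM N hN hxN hkN :=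
    BG14.SupportFrobenius.conclusion (BG14.KappaRows.rows hG hS) hG hM hx hx1 hxM hN hxN hkN
  r1378 := Cfsg.Agent.S1378.result hG
  r1432 M hM x hx hx1 x' hx' hx'1 hσ := Cfsg.Agent.S1432.result hG M hM x hx hx1 x' hx' hx'1 hσ
  r1436 M hM x hx hx1 hxM N hN hxN := by
    have h2 := BG14.TypePFixedProof.typePFixed hG
    have h := BG14.Support.spec_of h2 hG hM hx hx1 hxM hN hxN
    exact ⟨fun ⟨p, hpN, hpM⟩ =>
        ⟨BG14.SupportKappa.kappa_eq_empty (BG14.KappaRows.rows hG hS) hG hM hx hx1 h hpN hpM,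
          BG14.SupportSigma.tau2_eq_empty hG hM hx hx1 hxM h hpN hpM⟩,
      fun y N' g hy hy1 hyM hN' hyN hg =>
        BG14.SupportSigma.exists_conj_partner h2 hG hM hx hx1 hxM h hy hy1 hyM hN' hyN hg⟩
  r1438 M hM H hH hH1 hHall :=
    ⟨CentralizerHall.centralizer_hall hG (centralizingElement hG) (Hyps.primeAction hG)
        (Hyps.sylowNotInStar hG) hM hH hH1 hHall,
      Fusion.fusion hG (Hyps.nilpotentOfNonKappa hG) (kappaCyclic hG) (Hyps.primeAction hG)
        (starPrime hG) (conjTransitive hG) hM hH hHall⟩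
  r1440 M hM K U hKU g hg hX :=
    NotTI.structure_of_not_ti (base hG) (centralizingElement hG) (Hyps.sylowNotInStar hG)
      (Hyps.regularOnU hG) (Hyps.starNeBot hG) (regularExponent hG) hM hKU hg hX

end Cfsg.Agent.Lib.OddOrder.Assembly.RowsOf
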