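import Cfsg.Agent.Lib.OddOrder.Assembly.PF11Setup
import Cfsg.Agent.Lib.OddOrder.PF11.Main
import Cfsg.Agent.Lib.OddOrder.PF13.Group

/-!
# The facts on types III and IV consumed by §§12–13, from §10 and the proved §11
-/

set_option autoImplicit false

namespace Cfsg.Agent.Lib.OddOrder.Assembly

open Cfsg.Agent.Lib.OddOrder.Interface

universe u

variable {G : Type u} [Group G] [Fintype G]

/-- `PF12.TypeThreeFourCyclic` with §11 discharged. -/
theorem typeThreeFourCyclic' (hG : Cfsg.IsMinSimpleOddOrder G) (hB : PF8.BG16 G)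
    (hp : PF10.Partner G) (h108 : PF10.Step_10_8 G) : PF12.TypeThreeFourCyclic G :=
  typeThreeFourCyclic hG hB hp h108 Cfsg.Agent.Lib.OddOrder.PF11.Main.step_11

/-- `PF13.TypeThreeFacts`. -/
theorem typeThreeFacts (hG : Cfsg.IsMinSimpleOddOrder G) (hB : PF8.BG16 G)
    (hp : PF10.Partner G) (h108 : PF10.Step_10_8 G) :
    Cfsg.Agent.Lib.OddOrder.PF13.TypeThreeFacts G := by
  intro M W₁ U W₂ hM hP h34 _
  haveI := Fintype.ofFinite M
  have r := Cfsg.Agent.Lib.OddOrder.PF11.Main.result (pf11_setup hG hB hp h108 hM hP h34)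
  exact ⟨r.U_cyclic, r.H_elementary, r.H_card, r.p_lt_q⟩

end Cfsg.Agent.Lib.OddOrder.Assembly
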